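import Mathlib

/-!
# Elementary symmetric functions of shifted and summed multisets
-/

set_option autoImplicit false

namespace ChernOpLib

open Multiset

variable {R : Type*} [CommRing R]

theorem esymm_cons' (a : R) (s : Multiset R) (k : ℕ) :
    (a ::ₘ s).esymm (k + 1) = s.esymm (k + 1) + a * s.esymm k := by
  simp [Multiset.esymm, Multiset.powersetCard_cons, Multiset.map_map, Multiset.sum_map_mul_left, Function.comp_def]

theorem esymm_zero' (s : Multiset R) : s.esymm 0 = 1 := by simp [Multiset.esymm]

theorem esymm_zero_succ (k : ℕ) : (0 : Multiset R).esymm (k + 1) = 0 := by simp [Multiset.esymm]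

theorem esymm_one' (s : Multiset R) : s.esymm 1 = s.sum := by
  induction s using Multiset.induction_on with
  | empty => simp [Multiset.esymm]
  | cons a s ih => rw [esymm_cons', ih, esymm_zero', mul_one, Multiset.sum_cons, add_comm]

theorem esymm_map_add (l : R) (s : Multiset R) (i : ℕ) (hi : i ≤ Multiset.card s) :
    (s.map fun a => l + a).esymm i =
      ∑ j ∈ Finset.range (i + 1), ((Nat.choose (Multiset.card s - i + j) j : ℕ) : R) * l ^ j * s.esymm (i - j) := by
  induction s using Multiset.induction_on generalizing i with
  | empty =>
    obtain rfl : i = 0 := by simpa using hi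
    simp [esymm_zero']
  | cons a s ih =>
    rw [Multiset.card_cons] at hi
    rcases i with _ | i
    · simp [esymm_zero']
    rw [Multiset.map_cons, esymm_cons', Multiset.card_cons]
    set r := Multiset.card s with hr
    have ihi := ih i (by omega)
    rcases eq_or_lt_of_le hi with h | h
    · -- top degree
      have h0 : (s.map fun x => l + x).esymm (i + 1) = 0 := by
        rw [Multiset.esymm, Multiset.powersetCard_eq_empty, Multiset.map_zero, Multiset.sum_zero]
        rw [Multiset.card_map]; omega
      have h0' : s.esymm (i + 1) = 0 := by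
        rw [Multiset.esymm, Multiset.powersetCard_eq_empty, Multiset.map_zero, Multiset.sum_zero]
        omega
      have hri : r = i := by omega
      subst hri
      rw [h0, zero_add, ihi]
      simp only [Nat.sub_self, Nat.zero_add, Nat.choose_self, Nat.cast_one, one_mul]
      rw [Finset.sum_range_succ _ (r + 1)]
      have e : ∀ j ∈ Finset.range (r + 1), l ^ j * (a ::ₘ s).esymm (r + 1 - j) =
          l ^ j * s.esymm (r + 1 - j) + a * (l ^ j * s.esymm (r - j)) := by
        intro j hj
        rw [show r + 1 - j = r - j + 1 by rw [Finset.mem_range] at hj; omega, esymm_cons']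
        ring
      rw [Finset.sum_congr rfl e, Finset.sum_add_distrib, ← Finset.mul_sum, Nat.sub_self, esymm_zero', mul_one]
      rw [Finset.sum_range_succ' (fun j => l ^ j * s.esymm (r + 1 - j)) r, Nat.sub_zero, h0']
      have e2 : ∀ j ∈ Finset.range r, l ^ (j + 1) * s.esymm (r + 1 - (j + 1)) = l * (l ^ j * s.esymm (r - j)) := by
        intro j _
        rw [show r + 1 - (j + 1) = r - j by omega, pow_succ]
        ring
      rw [Finset.sum_congr rfl e2, ← Finset.mul_sum, Finset.sum_range_succ _ r]
      simp only [Nat.sub_self, esymm_zero']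
      ring
    · have ih1 := ih (i + 1) (by omega)
      rw [ih1, ihi]
      have e : ∀ j ∈ Finset.range (i + 1), ((Nat.choose (r + 1 - (i + 1) + j) j : ℕ) : R) * l ^ j *
          (a ::ₘ s).esymm (i + 1 - j) =
          ((Nat.choose (r - i + j) j : ℕ) : R) * l ^ j * s.esymm (i + 1 - j) +
            a * (((Nat.choose (r - i + j) j : ℕ) : R) * l ^ j * s.esymm (i - j)) := by
        intro j hj
        rw [show i + 1 - j = i - j + 1 by rw [Finset.mem_range] at hj; omega, esymm_cons',
          show r + 1 - (i + 1) + j = r - i + j by omega]
        ring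
      rw [Finset.sum_range_succ (fun j => ((Nat.choose (r + 1 - (i + 1) + j) j : ℕ) : R) * l ^ j *
        (a ::ₘ s).esymm (i + 1 - j)) (i + 1), Finset.sum_congr rfl e, Finset.sum_add_distrib, ← Finset.mul_sum,
        Nat.sub_self, esymm_zero']
      rw [Finset.sum_range_succ' (fun j => ((Nat.choose (r - (i + 1) + j) j : ℕ) : R) * l ^ j *
        s.esymm (i + 1 - j)) (i + 1),
        Finset.sum_range_succ' (fun j => ((Nat.choose (r - i + j) j : ℕ) : R) * l ^ j * s.esymm (i + 1 - j)) i]
      have key : ∀ j, ((Nat.choose (r - i + (j + 1)) (j + 1) : ℕ) : R) =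
          ((Nat.choose (r - (i + 1) + (j + 1)) (j + 1) : ℕ) : R) + ((Nat.choose (r - i + j) j : ℕ) : R) := by
        intro j
        rw [show r - i + (j + 1) = r - i + j + 1 by omega, Nat.choose_succ_succ,
          show r - (i + 1) + (j + 1) = r - i + j by omega]
        push_cast
        ring
      have e3 : ∀ j ∈ Finset.range i,
          ((Nat.choose (r - i + (j + 1)) (j + 1) : ℕ) : R) * l ^ (j + 1) * s.esymm (i + 1 - (j + 1)) =
          ((Nat.choose (r - (i + 1) + (j + 1)) (j + 1) : ℕ) : R) * l ^ (j + 1) * s.esymm (i + 1 - (j + 1)) +
            l * (((Nat.choose (r - i + j) j : ℕ) : R) * l ^ j * s.esymm (i - j)) := by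
        intro j _
        rw [key, show i + 1 - (j + 1) = i - j by omega, pow_succ]
        ring
      rw [Finset.sum_congr rfl e3, Finset.sum_add_distrib, ← Finset.mul_sum,
        Finset.sum_range_succ (fun j => ((Nat.choose (r - i + j) j : ℕ) : R) * l ^ j * s.esymm (i - j)) i,
        Finset.sum_range_succ (fun j => ((Nat.choose (r - (i + 1) + (j + 1)) (j + 1) : ℕ) : R) * l ^ (j + 1) *
          s.esymm (i + 1 - (j + 1))) i]
      simp only [Nat.choose_zero_right, Nat.sub_self, esymm_zero', Nat.cast_one, pow_zero]
      rw [show r + 1 - (i + 1) + (i + 1) = r - i + (i + 1) by omega, key i,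
        show r - (i + 1) + (i + 1) = r by omega, pow_succ]
      ring

theorem sum_product_add (s t : Multiset R) :
    ((s ×ˢ t).map fun p => p.1 + p.2).sum =
      (Multiset.card t : R) * s.sum + (Multiset.card s : R) * t.sum := by
  induction t using Multiset.induction_on with
  | empty => simp
  | cons q t ih =>
    simp only [Multiset.product_cons, Multiset.map_add, Multiset.sum_add, ih, Multiset.map_map,
      Function.comp_def, Multiset.sum_map_add, Multiset.map_id', Multiset.map_const', Multiset.sum_replicate,
      Multiset.sum_cons, Multiset.card_cons, nsmul_eq_mul]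
    push_cast
    ring

theorem esymm_two_add (s t : Multiset R) :
    (s + t).esymm 2 = s.esymm 2 + s.sum * t.sum + t.esymm 2 := by
  induction s using Multiset.induction_on with
  | empty => simp [esymm_zero_succ]
  | cons a s ih =>
    rw [Multiset.cons_add, esymm_cons', esymm_cons', ih, esymm_one', esymm_one', Multiset.sum_cons,
      Multiset.sum_add]
    ring

theorem esymm_two_map_add (q : R) (s : Multiset R) :
    (s.map fun a => q + a).esymm 2 = s.esymm 2 + ((Multiset.card s : R) - 1) * q * s.sum +
      ((Nat.choose (Multiset.card s) 2 : ℕ) : R) * (q * q) := by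
  induction s using Multiset.induction_on with
  | empty => simp [esymm_zero_succ]
  | cons a s ih =>
    rw [Multiset.map_cons, esymm_cons', esymm_cons', ih, esymm_one', esymm_one', Multiset.sum_map_add,
      Multiset.map_const', Multiset.sum_replicate, Multiset.map_id', Multiset.sum_cons, Multiset.card_cons,
      Nat.choose_succ_succ, Nat.choose_one_right, nsmul_eq_mul]
    push_cast
    ring

theorem choose_two_mul (n : ℕ) : ((Nat.choose n 2 : ℕ) : R) * 2 = (n : R) * ((n : R) - 1) := by
  induction n with
  | zero => simp
  | succ n ih =>
    rw [Nat.choose_succ_succ, Nat.choose_one_right]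
    push_cast
    linear_combination ih

theorem esymm_two_product (s t : Multiset R) :
    ((s ×ˢ t).map fun p => p.1 + p.2).esymm 2 =
      (Multiset.card s : R) * t.esymm 2 + (Multiset.card t : R) * s.esymm 2 +
      ((Nat.choose (Multiset.card s) 2 : ℕ) : R) * (t.sum * t.sum) +
      ((Multiset.card s : R) * (Multiset.card t : R) - 1) * (t.sum * s.sum) +
      ((Nat.choose (Multiset.card t) 2 : ℕ) : R) * (s.sum * s.sum) := by
  induction t using Multiset.induction_on with
  | empty => simp [esymm_zero_succ]
  | cons q t ih =>
    rw [Multiset.product_cons, Multiset.map_add, Multiset.map_map,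
      show ((fun p : R × R => p.1 + p.2) ∘ fun a => (a, q)) = (fun a => q + a) from funext fun a => add_comm _ _,
      esymm_two_add, esymm_two_map_add, ih, sum_product_add, Multiset.sum_map_add, Multiset.map_const',
      Multiset.sum_replicate, Multiset.map_id', esymm_cons', esymm_one', Multiset.sum_cons, Multiset.card_cons,
      Nat.choose_succ_succ, Nat.choose_one_right, nsmul_eq_mul]
    push_cast
    linear_combination (-(q * t.sum)) * choose_two_mul (R := R) (Multiset.card s)

end ChernOpLib
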