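import Mathlib
import Groth.Prelude.Def_Bivar
import Groth.Agent.CycBivLib.C1
import Groth.Agent.S6454
import Groth.Agent.S1922
import Groth.Agent.S1856

/-!
# First Chern classes as commuting endomorphisms of the total Chow group
-/

set_option autoImplicit false
set_option linter.style.haveILetI false
set_option linter.unusedSectionVars false

universe u

open AlgebraicGeometry CategoryTheory

noncomputable section

namespace ChernOpLib

/-- The total Chow group, as the product over all dimensions. -/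
abbrev Tot (X : Scheme.{u}) (δ : X → ℤ) : Type u := ∀ k : ℤ, ChowOps.CH X δ k

variable {X P : Scheme.{u}} {δ : X → ℤ}

/-- The class of a cycle in the total group. -/
def tcl {k : ℤ} (α : AlgebraicCycle X ℤ) (hα : α ∈ Cyc.Zk X δ k) : Tot X δ :=
  Pi.single (M := fun k => ChowOps.CH X δ k) k (ChowOps.cl α hα)

theorem tcl_eq_iff (hX : Cyc.IsSetup X δ) {k : ℤ} {α β : AlgebraicCycle X ℤ} (hα : α ∈ Cyc.Zk X δ k)
    (hβ : β ∈ Cyc.Zk X δ k) : tcl α hα = tcl β hβ ↔ Cyc.RatEquiv δ k α β := by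
  refine ⟨fun h => CycBivLib.ratEquiv_of_cl_eq hX hα hβ ?_, fun h => by rw [tcl, tcl, CycBivLib.cl_eq_cl hα hβ h]⟩
  have := congrFun h k
  rwa [tcl, tcl, Pi.single_eq_same, Pi.single_eq_same] at this

/-- The class map into the total group. -/
def tclHom (X : Scheme.{u}) (δ : X → ℤ) (k : ℤ) : ↥(ChowOps.zk X δ k) →+ Tot X δ :=
  (AddMonoidHom.single (fun k => ChowOps.CH X δ k) k).comp (ChowOps.clHom X δ k)

theorem tcl_add {k : ℤ} {α β : AlgebraicCycle X ℤ} (hα : α ∈ Cyc.Zk X δ k) (hβ : β ∈ Cyc.Zk X δ k) :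
    tcl (α + β) ((ChowOps.zk X δ k).add_mem hα hβ) = tcl α hα + tcl β hβ :=
  map_add (tclHom X δ k) ⟨α, hα⟩ ⟨β, hβ⟩

theorem tcl_zero {k : ℤ} (h : (0 : AlgebraicCycle X ℤ) ∈ Cyc.Zk X δ k) : tcl (0 : AlgebraicCycle X ℤ) h = 0 :=
  map_zero (tclHom X δ k)

theorem tcl_smul {k : ℤ} (c : ℤ) {α : AlgebraicCycle X ℤ} (hα : α ∈ Cyc.Zk X δ k) :
    tcl (c • α) ((ChowOps.zk X δ k).zsmul_mem hα c) = c • tcl α hα :=
  map_zsmul (tclHom X δ k) c ⟨α, hα⟩

theorem tcl_sum {k : ℤ} {ι : Type*} (S : Finset ι) (α : ι → AlgebraicCycle X ℤ)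
    (hα : ∀ i, α i ∈ Cyc.Zk X δ k) :
    tcl (∑ i ∈ S, α i) ((ChowOps.zk X δ k).sum_mem fun i _ => hα i) = ∑ i ∈ S, tcl (α i) (hα i) := by
  refine (congrArg (tclHom X δ k) (Subtype.ext ?_)).trans (map_sum (tclHom X δ k) (fun i => ⟨α i, hα i⟩) S)
  exact (map_sum (ChowOps.zk X δ k).subtype (fun i => (⟨α i, hα i⟩ : ↥(ChowOps.zk X δ k))) S).symm

theorem tcl_congr {k k' : ℤ} (e : k = k') {α : AlgebraicCycle X ℤ} (hα : α ∈ Cyc.Zk X δ k) :
    tcl α hα = tcl α (e ▸ hα : α ∈ Cyc.Zk X δ k') := by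
  subst e; rfl

theorem chCast_rfl {k : ℤ} (y : ChowOps.CH X δ k) : Bivar.chCast X δ rfl y = y := rfl

/-- A graded map of degree `-d`, on the total groups. -/
def shiftHom {Y : Scheme.{u}} {δY : Y → ℤ} (d : ℤ)
    (φ : ∀ k, ChowOps.CH X δ k →+ ChowOps.CH Y δY (k - d)) : Tot X δ →+ Tot Y δY :=
  AddMonoidHom.mk' (fun x k => Bivar.chCast Y δY (add_sub_cancel_right k d) (φ (k + d) (x (k + d))))
    fun x y => funext fun k => by simp [map_add]

theorem shift_aux {Y : Scheme.{u}} {δY : Y → ℤ} (d : ℤ)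
    (φ : ∀ k, ChowOps.CH X δ k →+ ChowOps.CH Y δY (k - d)) {m k : ℤ} (hm : m = k) (y : ChowOps.CH X δ k)
    (e : m - d = k - d) :
    Bivar.chCast Y δY e (φ m (Pi.single (M := fun k => ChowOps.CH X δ k) k y m)) = φ k y := by
  subst hm
  rw [Pi.single_eq_same]
  exact chCast_rfl _

theorem shiftHom_single {Y : Scheme.{u}} {δY : Y → ℤ} (d : ℤ)
    (φ : ∀ k, ChowOps.CH X δ k →+ ChowOps.CH Y δY (k - d)) (k : ℤ) (y : ChowOps.CH X δ k) :
    shiftHom d φ (Pi.single (M := fun k => ChowOps.CH X δ k) k y) =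
      Pi.single (M := fun k => ChowOps.CH Y δY k) (k - d) (φ k y) := by
  refine funext fun j => ?_
  show Bivar.chCast Y δY (add_sub_cancel_right j d) (φ (j + d) _) = _
  by_cases h : j = k - d
  · subst h
    rw [Pi.single_eq_same]
    exact shift_aux d φ (sub_add_cancel k d) y (add_sub_cancel_right _ _)
  · rw [Pi.single_eq_of_ne h, Pi.single_eq_of_ne (show j + d ≠ k by omega), map_zero, map_zero]

variable (hX : Cyc.IsSetup X δ) {L : X.Modules} (hL : PicF.IsInvertible L)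

/-- Chosen rational sections. -/
def secs (hL : PicF.IsInvertible L) : (ξ : X) → Cyc.secFibre L ξ := (CycBivLib.exists_sections hL).choose

theorem secs_ne_zero (hL : PicF.IsInvertible L) (ξ : X) : secs hL ξ ≠ 0 :=
  (CycBivLib.exists_sections hL).choose_spec ξ

/-- The first Chern class as an endomorphism. -/
def c1T : AddMonoid.End (Tot X δ) := shiftHom 1 fun k => CycBivLib.capCH hX hL (secs_ne_zero hL) k

theorem c1T_tcl {k : ℤ} {α : AlgebraicCycle X ℤ} (hα : α ∈ Cyc.Zk X δ k) {s : (ξ : X) → Cyc.secFibre L ξ}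
    (hs : ∀ ξ, s ξ ≠ 0) {γ : AlgebraicCycle X ℤ} (hγ : ⇑γ = Cyc.c1CapFun δ L ⇑α s) (hγm : γ ∈ Cyc.Zk X δ (k - 1)) :
    c1T hX hL (tcl α hα) = tcl γ hγm :=
  (shiftHom_single 1 _ k _).trans (congrArg _ (CycBivLib.capCH_cl hX hL _ k α hα hs γ hγ hγm))

/-- Endomorphisms agreeing on classes of cycles are equal. -/
theorem hom_ext_tcl {Y : Scheme.{u}} {δY : Y → ℤ} (d : ℤ) (φ ψ : ∀ k, ChowOps.CH X δ k →+ ChowOps.CH Y δY (k - d))
    (h : ∀ (k : ℤ) (α : AlgebraicCycle X ℤ) (hα : α ∈ Cyc.Zk X δ k), φ k (ChowOps.cl α hα) = ψ k (ChowOps.cl α hα)) :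
    shiftHom d φ = shiftHom d ψ := by
  refine congrArg (shiftHom d) (funext fun k => AddMonoidHom.ext fun y => ?_)
  obtain ⟨α, hα, rfl⟩ := Bivar.exists_rep y
  exact h k α hα

theorem c1T_comm {N : X.Modules} (hN : PicF.IsInvertible N) : c1T hX hL * c1T hX hN = c1T hX hN * c1T hX hL := by
  refine AddMonoidHom.ext fun x => funext fun j => ?_
  obtain ⟨α, hα, hαe⟩ := Bivar.exists_rep (x (j + 1 + 1))
  show Bivar.chCast X δ _ (CycBivLib.capCH hX hL _ (j + 1) (Bivar.chCast X δ _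
      (CycBivLib.capCH hX hN _ (j + 1 + 1) (x (j + 1 + 1))))) =
    Bivar.chCast X δ _ (CycBivLib.capCH hX hN _ (j + 1) (Bivar.chCast X δ _
      (CycBivLib.capCH hX hL _ (j + 1 + 1) (x (j + 1 + 1)))))
  rw [← hαe]
  have key : ∀ {A B : X.Modules} (hA : PicF.IsInvertible A) (hB : PicF.IsInvertible B),
      ∃ (γ : AlgebraicCycle X ℤ) (hγ : γ ∈ Cyc.Zk X δ j),
        Bivar.chCast X δ (add_sub_cancel_right j 1) (CycBivLib.capCH hX hA (secs_ne_zero hA) (j + 1)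
          (Bivar.chCast X δ (add_sub_cancel_right (j + 1) 1)
            (CycBivLib.capCH hX hB (secs_ne_zero hB) (j + 1 + 1) (ChowOps.cl α hα)))) = ChowOps.cl γ hγ ∧
        ⇑γ = Cyc.c1CapFun δ A (Cyc.c1CapFun δ B ⇑α (secs hB)) (secs hA) := by
    intro A B hA hB
    have h1 : CycC1Lib.capCyc hX hB α (secs_ne_zero hB) ∈ Cyc.Zk X δ (j + 1) :=
      CycCommLib.capCyc_mem_Zk hX hB hα (secs_ne_zero hB)
    have h2 : CycC1Lib.capCyc hX hA (CycC1Lib.capCyc hX hB α (secs_ne_zero hB)) (secs_ne_zero hA) ∈ Cyc.Zk X δ j :=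
      CycCommLib.capCyc_mem_Zk hX hA h1 (secs_ne_zero hA)
    refine ⟨_, h2, ?_, rfl⟩
    rw [CycBivLib.capCH_cl hX hB _ (j + 1 + 1) α hα (secs_ne_zero hB) _ rfl (by rw [add_sub_cancel_right]; exact h1)]
    have e1 : ∀ {a b : ℤ} (e : a = b) {γ : AlgebraicCycle X ℤ} (hγ : γ ∈ Cyc.Zk X δ a),
        Bivar.chCast X δ e (ChowOps.cl γ hγ) = ChowOps.cl γ (e ▸ hγ : γ ∈ Cyc.Zk X δ b) := by
      intro a b e γ hγ; subst e; rfl
    rw [e1, CycBivLib.capCH_cl hX hA _ (j + 1) _ _ (secs_ne_zero hA) _ rfl (by rw [add_sub_cancel_right]; exact h2), e1]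
  obtain ⟨γ₁, h₁, e₁, f₁⟩ := key hL hN
  obtain ⟨γ₂, h₂, e₂, f₂⟩ := key hN hL
  rw [e₁, e₂]
  exact CycBivLib.cl_eq_cl _ _ (Groth.Agent.S1922.result X δ hX L N hL hN j α (by
    rwa [show j + 1 + 1 = j + 2 by ring] at hα) _ _ _ _ (secs_ne_zero hL) (secs_ne_zero hL) (secs_ne_zero hN)
    (secs_ne_zero hN) γ₁ γ₂ f₁ f₂)

theorem c1T_tensor {N : X.Modules} (hN : PicF.IsInvertible N) (hT : PicF.IsInvertible (CohB1.tensorMod L N)) :
    c1T hX hT = c1T hX hL + c1T hX hN := by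
  refine (hom_ext_tcl 1 _ (fun k => CycBivLib.capCH hX hL (secs_ne_zero hL) k + CycBivLib.capCH hX hN (secs_ne_zero hN) k)
    fun k α hα => ?_).trans (AddMonoidHom.ext fun x => funext fun j => by
      show Bivar.chCast X δ _ (_ + _) = Bivar.chCast X δ _ _ + Bivar.chCast X δ _ _
      rw [map_add])
  have hm : ∀ {A : X.Modules} (hA : PicF.IsInvertible A),
      CycC1Lib.capCyc hX hA α (secs_ne_zero hA) ∈ Cyc.Zk X δ (k - 1) := fun hA =>
    CycCommLib.capCyc_mem_Zk hX hA (by rw [sub_add_cancel]; exact hα) (secs_ne_zero hA)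
  rw [AddMonoidHom.add_apply, CycBivLib.capCH_cl hX hT _ k α hα (secs_ne_zero hT) _ rfl (hm hT),
    CycBivLib.capCH_cl hX hL _ k α hα (secs_ne_zero hL) _ rfl (hm hL),
    CycBivLib.capCH_cl hX hN _ k α hα (secs_ne_zero hN) _ rfl (hm hN), ← Bivar.cl_add]
  exact (CycBivLib.cl_eq_cl _ _ (Groth.Agent.S6454.result X δ hX L N hL hN (k - 1) α
    (by rw [sub_add_cancel]; exact hα) _ (secs_ne_zero hL) _ (secs_ne_zero hN) _ (secs_ne_zero hT) _ _ _
    rfl rfl rfl)).symm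

theorem c1T_iso {N : X.Modules} (hN : PicF.IsInvertible N) (e : L ≅ N) : c1T hX hL = c1T hX hN := by
  refine hom_ext_tcl 1 _ _ fun k α hα => ?_
  have hm : CycC1Lib.capCyc hX hL α (secs_ne_zero hL) ∈ Cyc.Zk X δ (k - 1) :=
    CycCommLib.capCyc_mem_Zk hX hL (by rw [sub_add_cancel]; exact hα) (secs_ne_zero hL)
  rw [CycBivLib.capCH_cl hX hL _ k α hα (secs_ne_zero hL) _ rfl hm]
  refine (CycBivLib.capCH_cl hX hN _ k α hα (fun ξ => CycBivLib.fibMap_ne_zero e (secs_ne_zero hL ξ)) _ ?_ hm).symm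
  exact (CycBivLib.c1CapFun_fibMap hX hL e ⇑α _).symm

/-- The set of first Chern classes. -/
def c1Set : Set (AddMonoid.End (Tot X δ)) := {e | ∃ (N : X.Modules) (hN : PicF.IsInvertible N), e = c1T hX hN}

/-- The ring of first Chern classes. -/
abbrev OpRing : Type u := ↥(Subring.closure (c1Set hX))

instance : CommRing (OpRing hX) :=
  Subring.closureCommRingOfComm fun _ ⟨_, hN, e⟩ _ ⟨_, hM, e'⟩ => e ▸ e' ▸ c1T_comm hX hN hM

/-- The first Chern class in the ring. -/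
def op : OpRing hX := ⟨c1T hX hL, Subring.subset_closure ⟨L, hL, rfl⟩⟩

theorem op_tensor {N : X.Modules} (hN : PicF.IsInvertible N) (hT : PicF.IsInvertible (CohB1.tensorMod L N)) :
    op hX hT = op hX hL + op hX hN := Subtype.ext (c1T_tensor hX hL hN hT)

theorem op_iso {N : X.Modules} (hN : PicF.IsInvertible N) (e : L ≅ N) : op hX hL = op hX hN :=
  Subtype.ext (c1T_iso hX hL hN e)

end ChernOpLib

end
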