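import Mathlib
import Groth.Agent.ChernOpLib.Tot
import Groth.Agent.ProjBunLib.Good

/-!
# Flat pullback on total Chow groups
-/

set_option autoImplicit false
set_option linter.style.haveILetI false
set_option linter.unusedSectionVars false

universe u

open AlgebraicGeometry CategoryTheory CategoryTheory.Limits

noncomputable section

namespace ChernOpLib

variable {X P : Scheme.{u}} {δ : X → ℤ} {δP : P → ℤ} {π : P ⟶ X} {d : ℕ} (hX : Cyc.IsSetup X δ)
  (hP : Cyc.IsSetup P δP) [Flat π] [LocallyOfFiniteType π] (hr : Cyc.HasRelDim π d) (hδ : Cyc.DeltaCompat π δP δ)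

include hr hδ in
theorem gen_of (z : P) (hz : CycLimLib.IsGen π z) : δP z = δ (π z) + (d : ℤ) :=
  CycLimLib.delta_eq_of_gen π hδ hr hz

include hX hP hr hδ in
theorem pullRep_mem {k : ℤ} {α : AlgebraicCycle X ℤ} (hα : α ∈ Cyc.Zk X δ k) :
    CycC1Lib.pullCyc π hP (gen_of hr hδ) α ∈ Cyc.Zk P δP (k - -(d : ℤ)) := by
  rw [sub_neg_eq_add]
  exact CycC1Lib.pullCyc_mem_Zk π hP (gen_of hr hδ) hα

/-- Flat pullback on one Chow group. -/
def pullCH1 (k : ℤ) : ChowOps.CH X δ k →+ ChowOps.CH P δP (k - -(d : ℤ)) :=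
  CycBivLib.descend (AddMonoidHom.mk'
    (fun a => ChowOps.cl (CycC1Lib.pullCyc π hP (gen_of hr hδ) a.1) (pullRep_mem hX hP hr hδ a.2))
    fun a b => by
      rw [← Bivar.cl_add]
      exact Bivar.cl_congr (Function.locallyFinsuppWithin.ext fun z =>
        congrFun (Bivar.pullFun_add π δP δ d ⇑a.1 ⇑b.1) z) _ _)
    fun a ha => by
      refine (CycBivLib.cl_eq_cl _ (ChowOps.zk P δP (k - -(d : ℤ))).zero_mem ?_).trans Bivar.cl_zero
      rw [sub_neg_eq_add]
      exact Groth.Agent.S1856.result P X δP δ hP hX π d hr hδ k a.1 0 a.2 (ChowOps.zk X δ k).zero_mem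
        (by show Cyc.RatEquivZero δ k (_ - 0); rw [sub_zero]; exact ha)
        (CycC1Lib.pullCyc π hP (gen_of hr hδ) a.1) 0 rfl
        (by rw [Function.locallyFinsuppWithin.coe_zero, Function.locallyFinsuppWithin.coe_zero, Bivar.pullFun_zero])

/-- Flat pullback on the total groups. -/
def pullT : Tot X δ →+ Tot P δP := shiftHom (-(d : ℤ)) (pullCH1 hX hP hr hδ)

theorem pullT_tcl {k : ℤ} {α : AlgebraicCycle X ℤ} (hα : α ∈ Cyc.Zk X δ k) {β : AlgebraicCycle P ℤ}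
    (hβ : ⇑β = Cyc.pullFun π δP δ d ⇑α) (hβm : β ∈ Cyc.Zk P δP (k + d)) :
    pullT hX hP hr hδ (tcl α hα) = tcl β hβm := by
  refine (shiftHom_single (-(d : ℤ)) _ k _).trans ?_
  obtain rfl : CycC1Lib.pullCyc π hP (gen_of hr hδ) α = β := DFunLike.coe_injective hβ.symm
  exact tcl_congr (sub_neg_eq_add k (d : ℤ)) (pullRep_mem hX hP hr hδ hα)

theorem exists_rep_tot (x : Tot X δ) (k : ℤ) : ∃ (α : AlgebraicCycle X ℤ) (hα : α ∈ Cyc.Zk X δ k),
    x k = ChowOps.cl α hα := by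
  obtain ⟨α, hα, e⟩ := Bivar.exists_rep (x k)
  exact ⟨α, hα, e.symm⟩

/-- Pullback commutes with first Chern classes. -/
theorem pullT_c1T {L : X.Modules} (hL : PicF.IsInvertible L) {k : ℤ} {α : AlgebraicCycle X ℤ}
    (hα : α ∈ Cyc.Zk X δ k) :
    pullT hX hP hr hδ (c1T hX hL (tcl α hα)) =
      c1T hP (AmpleDevLib.isInvertible_pb π hL) (pullT hX hP hr hδ (tcl α hα)) := by
  have hgen := gen_of hr hδ
  have hL' := AmpleDevLib.isInvertible_pb π hL
  let γ := CycC1Lib.capCyc hX hL α (secs_ne_zero hL)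
  have hγ : γ ∈ Cyc.Zk X δ (k - 1) :=
    CycCommLib.capCyc_mem_Zk hX hL (by rw [sub_add_cancel]; exact hα) (secs_ne_zero hL)
  have hβ : CycC1Lib.pullCyc π hP hgen α ∈ Cyc.Zk P δP (k + d) := CycC1Lib.pullCyc_mem_Zk π hP hgen hα
  have hβ' : CycC1Lib.pullCyc π hP hgen γ ∈ Cyc.Zk P δP (k - 1 + d) := CycC1Lib.pullCyc_mem_Zk π hP hgen hγ
  let ζ := CycC1Lib.capCyc hP hL' (CycC1Lib.pullCyc π hP hgen α) (secs_ne_zero hL')
  have hζ : ζ ∈ Cyc.Zk P δP (k + d - 1) :=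
    CycCommLib.capCyc_mem_Zk hP hL' (by rw [sub_add_cancel]; exact hβ) (secs_ne_zero hL')
  rw [c1T_tcl hX hL hα (secs_ne_zero hL) (γ := γ) rfl hγ, pullT_tcl hX hP hr hδ hγ rfl hβ',
    pullT_tcl hX hP hr hδ hα rfl hβ, c1T_tcl hP hL' hβ (secs_ne_zero hL') (γ := ζ) rfl hζ,
    tcl_congr (show k - 1 + (d : ℤ) = k + d - 1 by ring) hβ', tcl_eq_iff hP]
  exact CycC1Lib.ratEquiv_pull_c1Cap π hP hX hgen hL α hα (secs_ne_zero hL) (secs_ne_zero hL') hL' _ _ rfl rfl

theorem pullT_c1T_apply {L : X.Modules} (hL : PicF.IsInvertible L) (x : Tot X δ) :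
    pullT hX hP hr hδ (c1T hX hL x) = c1T hP (AmpleDevLib.isInvertible_pb π hL) (pullT hX hP hr hδ x) := by
  refine funext fun j => ?_
  -- both sides only see one component of `x`
  obtain ⟨α, hα, e⟩ := exists_rep_tot x (j + -(d : ℤ) + 1)
  have hsingle := congrFun (pullT_c1T hX hP hr hδ hL hα) j
  have hcomp : ∀ y : Tot X δ, y (j + -(d : ℤ) + 1) = x (j + -(d : ℤ) + 1) →
      (pullT hX hP hr hδ (c1T hX hL y)) j = (pullT hX hP hr hδ (c1T hX hL x)) j ∧
      (c1T hP (AmpleDevLib.isInvertible_pb π hL) (pullT hX hP hr hδ y)) j =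
        (c1T hP (AmpleDevLib.isInvertible_pb π hL) (pullT hX hP hr hδ x)) j := by
    intro y hy
    refine ⟨?_, ?_⟩
    · show Bivar.chCast P δP _ (pullCH1 hX hP hr hδ _ (Bivar.chCast X δ _ (CycBivLib.capCH hX hL _ _ (y _)))) =
        Bivar.chCast P δP _ (pullCH1 hX hP hr hδ _ (Bivar.chCast X δ _ (CycBivLib.capCH hX hL _ _ (x _))))
      rw [hy]
    · have h1 : y (j + 1 + -(d : ℤ)) = x (j + 1 + -(d : ℤ)) := by
        revert hy
        rw [show j + 1 + -(d : ℤ) = j + -(d : ℤ) + 1 by ring]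
        exact id
      show Bivar.chCast P δP _ (CycBivLib.capCH hP _ _ _ (Bivar.chCast P δP _ (pullCH1 hX hP hr hδ _ (y _)))) =
        Bivar.chCast P δP _ (CycBivLib.capCH hP _ _ _ (Bivar.chCast P δP _ (pullCH1 hX hP hr hδ _ (x _))))
      rw [h1]
  obtain ⟨h1, h2⟩ := hcomp (tcl α hα) (by rw [tcl, Pi.single_eq_same, e])
  exact h1.symm.trans (hsingle.trans h2)

/-- Pullback along a good morphism is injective. -/
theorem pullT_injective (hg : ProjBunLib.Good π δ d) : Function.Injective (pullT hX hP hr hδ) := by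
  rw [injective_iff_map_eq_zero]
  intro x hx
  refine funext fun k => ?_
  obtain ⟨α, hα, e⟩ := exists_rep_tot x k
  have hid : Cyc.DeltaCompat (𝟙 X) δ δ := CycBivLib.deltaCompat_restrict (𝟙 X)
  have hinj := (hg.inj X (𝟙 X) δ hX hid P π (𝟙 P) (IsPullback.id_horiz π) δP hP hδ).2 k α hα
    (CycC1Lib.pullCyc π hP (gen_of hr hδ) α) rfl
  rw [e]
  have h1 : (pullT hX hP hr hδ x) (k - -(d : ℤ)) = (pullT hX hP hr hδ (tcl α hα)) (k - -(d : ℤ)) := by
    show Bivar.chCast P δP _ (pullCH1 hX hP hr hδ _ (x _)) = Bivar.chCast P δP _ (pullCH1 hX hP hr hδ _ _)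
    have : ∀ m, m = k → x m = (tcl α hα) m := by
      intro m hm; subst hm; rw [tcl, Pi.single_eq_same, e]
    rw [this _ (sub_add_cancel k (-(d : ℤ)))]
  rw [hx] at h1
  have h2 := shiftHom_single (-(d : ℤ)) (pullCH1 hX hP hr hδ) k (ChowOps.cl α hα)
  have h3 : ChowOps.cl (CycC1Lib.pullCyc π hP (gen_of hr hδ) α) (pullRep_mem hX hP hr hδ hα) =
      (0 : ChowOps.CH P δP (k - -(d : ℤ))) := by
    have := congrFun h2 (k - -(d : ℤ))
    rw [Pi.single_eq_same] at this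
    exact this.symm.trans h1.symm
  refine (CycBivLib.cl_eq_cl hα (ChowOps.zk X δ k).zero_mem ?_).trans Bivar.cl_zero
  show Cyc.RatEquivZero δ k (α - 0)
  rw [sub_zero]
  refine hinj ?_
  rw [← sub_neg_eq_add]
  exact CycBivLib.ratEquivZero_of_cl_eq_zero hP (pullRep_mem hX hP hr hδ hα) h3

end ChernOpLib

end
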