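import Mathlib
import Groth.Agent.ChernOpLib.Pull
import Groth.Agent.ProjBunLib.Filt

/-!
# Chern roots
-/

set_option autoImplicit false
set_option linter.style.haveILetI false
set_option linter.unusedSectionVars false

universe u

open AlgebraicGeometry CategoryTheory CategoryTheory.Limits
open KFlatLib (pb)

noncomputable section

namespace ChernOpLib

variable {X : Scheme.{u}} {δ : X → ℤ} (hX : Cyc.IsSetup X δ)

/-- The module is built by extensions from invertible modules with the given first Chern classes. -/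
inductive Roots : X.Modules → Multiset (OpRing hX) → Prop
  | zero {F : X.Modules} (h : IsZero F) : Roots F 0
  | cons {K F Q : X.Modules} {S : Multiset (OpRing hX)} (f : K ⟶ F) (g : F ⟶ Q) (w : f ≫ g = 0)
      (hse : (ShortComplex.mk f g w).ShortExact) (hQ : PicF.IsInvertible Q) (hK : Roots K S) :
      Roots F (op hX hQ ::ₘ S)

variable {hX}

theorem Roots.of_iso {F F' : X.Modules} {S : Multiset (OpRing hX)} (h : Roots hX F S) (e : F ≅ F') :
    Roots hX F' S := by
  cases h with
  | zero h => exact .zero (h.of_iso e.symm)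
  | cons f g w hse hQ hK =>
    exact .cons (f ≫ e.hom) (e.inv ≫ g) (by simp [w])
      (ShortComplex.shortExact_of_iso (ShortComplex.isoMk (Iso.refl _) e (Iso.refl _) (by simp) (by simp) : ShortComplex.mk f g w ≅ ShortComplex.mk (f ≫ e.hom) (e.inv ≫ g) _) hse) hQ hK

theorem exists_roots {r : ℕ} {F : X.Modules} (h : ProjBunLib.HasFilt r F) :
    ∃ S : Multiset (OpRing hX), Multiset.card S = r ∧ Roots hX F S := by
  obtain ⟨M, L, a, b, h0, ⟨e⟩, hL, hex⟩ := h
  suffices ∀ i : Fin (r + 1), ∃ S : Multiset (OpRing hX), Multiset.card S = (i : ℕ) ∧ Roots hX (M i) S by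
    obtain ⟨S, hS, hR⟩ := this (Fin.last r)
    exact ⟨S, hS, hR.of_iso e⟩
  intro i
  induction i using Fin.induction with
  | zero => exact ⟨0, rfl, .zero h0⟩
  | succ i IH =>
    obtain ⟨S, hS, hR⟩ := IH
    obtain ⟨w, hse⟩ := hex i
    exact ⟨op hX (hL i) ::ₘ S, by simp [hS], .cons (a i) (b i) w hse (hL i) hR⟩

/-- Roots come from an indexed filtration. -/
theorem Roots.exists_filt {F : X.Modules} {S : Multiset (OpRing hX)} (h : Roots hX F S) :
    ∃ (r : ℕ) (M : Fin (r + 1) → X.Modules) (L : Fin r → X.Modules)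
      (a : ∀ j : Fin r, M (Fin.castSucc j) ⟶ M (Fin.succ j)) (b : ∀ j : Fin r, M (Fin.succ j) ⟶ L j)
      (_ : IsZero (M 0)) (_ : M (Fin.last r) ≅ F) (hL : ∀ j, PicF.IsInvertible (L j)),
      (∀ j, ∃ h : a j ≫ b j = 0, (ShortComplex.mk (a j) (b j) h).ShortExact) ∧
      S = (Finset.univ : Finset (Fin r)).val.map fun j => op hX (hL j) := by
  induction h with
  | @zero F h => exact ⟨0, fun _ => F, fun j => j.elim0, fun j => j.elim0, fun j => j.elim0, h, Iso.refl _,
      fun j => j.elim0, fun j => j.elim0, by simp⟩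
  | @cons K F Q S f g w hse hQ hK IH =>
    obtain ⟨r, M, L, a, b, h0, i, hL, hex, hS⟩ := IH
    let M' : Fin (r + 2) → X.Modules := Fin.snoc M F
    let L' : Fin (r + 1) → X.Modules := Fin.snoc L Q
    have hstep : ∀ j : Fin (r + 1), ∃ (a' : M' (Fin.castSucc j) ⟶ M' (Fin.succ j)) (b' : M' (Fin.succ j) ⟶ L' j)
        (h' : a' ≫ b' = 0), (ShortComplex.mk a' b' h').ShortExact := by
      intro j
      induction j using Fin.lastCases with
      | last =>
        refine ProjBunLib.ses_congr (eqToIso (?_ : _ = M (Fin.last r)) ≪≫ i) (eqToIso ?_) (eqToIso ?_) w hse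
        · exact Fin.snoc_castSucc (α := fun _ => X.Modules) F M (Fin.last r)
        · rw [Fin.succ_last]
          exact Fin.snoc_last (α := fun _ => X.Modules) F M
        · exact Fin.snoc_last (α := fun _ => X.Modules) Q L
      | cast j =>
        obtain ⟨h', hse'⟩ := hex j
        refine ProjBunLib.ses_congr (eqToIso ?_) (eqToIso ?_) (eqToIso ?_) h' hse'
        · exact Fin.snoc_castSucc (α := fun _ => X.Modules) F M (Fin.castSucc j)
        · rw [Fin.succ_castSucc]
          exact Fin.snoc_castSucc (α := fun _ => X.Modules) F M (Fin.succ j)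
        · exact Fin.snoc_castSucc (α := fun _ => X.Modules) Q L j
    choose a' b' h' hse' using hstep
    have hL' : ∀ j, PicF.IsInvertible (L' j) := fun j => by
      induction j using Fin.lastCases with
      | last => simpa [L'] using hQ
      | cast j => simpa [L'] using hL j
    have hop : ∀ (A B : X.Modules) (hA : PicF.IsInvertible A) (hB : PicF.IsInvertible B), A = B → op hX hA = op hX hB := by
      intro A B hA hB e; subst e; rfl
    refine ⟨r + 1, M', L', a', b', ?_, eqToIso (Fin.snoc_last (α := fun _ => X.Modules) F M), hL',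
      fun j => ⟨h' j, hse' j⟩, ?_⟩
    · rw [show M' 0 = M 0 from Fin.snoc_castSucc (α := fun _ => X.Modules) F M 0]
      exact h0
    · rw [Fin.univ_castSuccEmb, Finset.cons_val, Multiset.map_cons, Finset.map_val, Multiset.map_map, hS]
      congr 1
      · exact hop _ _ _ _ (Fin.snoc_last (α := fun _ => X.Modules) Q L).symm
      · refine Multiset.map_congr rfl fun j _ => ?_
        exact hop _ _ _ _ (Fin.snoc_castSucc (α := fun _ => X.Modules) Q L j).symm

/-- Roots of an extension. -/
theorem Roots.add {K F Q : X.Modules} {S T : Multiset (OpRing hX)} (hK : Roots hX K S) (hQ : Roots hX Q T)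
    (f : K ⟶ F) (g : F ⟶ Q) (w : f ≫ g = 0) (hse : (ShortComplex.mk f g w).ShortExact) : Roots hX F (S + T) := by
  induction hQ generalizing F with
  | @zero Q h =>
    rw [add_zero]
    haveI := hse.mono_f
    have he : Epi f := hse.exact.epi_f (h.eq_of_tgt _ _)
    haveI := isIso_of_mono_of_epi f
    exact hK.of_iso (asIso f)
  | @cons Q' Q L T f' g' w' hse' hL hQ' IH =>
    rw [Multiset.add_cons]
    haveI := hse.epi_g
    haveI := hse'.epi_g
    haveI := hse'.mono_f
    haveI := hse.mono_f
    let F' := kernel (g ≫ g')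
    let u : K ⟶ F' := kernel.lift _ f (by rw [← Category.assoc, w, zero_comp])
    let v : F' ⟶ Q' := hse'.fIsKernel.lift (KernelFork.ofι (kernel.ι (g ≫ g') ≫ g) (by rw [Category.assoc, kernel.condition]))
    have hv : v ≫ f' = kernel.ι (g ≫ g') ≫ g := hse'.fIsKernel.fac _ WalkingParallelPair.zero
    have huv : u ≫ v = 0 := by
      rw [← cancel_mono f', Category.assoc, hv, ← Category.assoc, kernel.lift_ι, w, zero_comp]
    have hfst : (ShortComplex.mk (kernel.ι (g ≫ g')) (g ≫ g') (kernel.condition _)).ShortExact :=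
      { exact := ShortComplex.exact_of_f_is_kernel _ (kernelIsKernel _)
        mono_f := inferInstanceAs (Mono (kernel.ι (g ≫ g')))
        epi_g := epi_comp g g' }
    refine .cons (kernel.ι (g ≫ g')) (g ≫ g') (kernel.condition _) hfst hL (IH u v huv ?_)
    refine { exact := ?_, mono_f := ?_, epi_g := ?_ }
    · refine ShortComplex.exact_of_f_is_kernel _ (KernelFork.IsLimit.ofι' u huv fun {A} a ha => ?_)
      have h1 : a ≫ kernel.ι (g ≫ g') ≫ g = 0 := by rw [← hv, ← Category.assoc, ha, zero_comp]
      let l := hse.fIsKernel.lift (KernelFork.ofι (a ≫ kernel.ι (g ≫ g')) (by rw [Category.assoc]; exact h1))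
      refine ⟨l, ?_⟩
      rw [← cancel_mono (kernel.ι (g ≫ g')), Category.assoc, kernel.lift_ι]
      exact hse.fIsKernel.fac _ WalkingParallelPair.zero
    · haveI : Mono (u ≫ kernel.ι (g ≫ g')) := by
        rw [kernel.lift_ι]; infer_instance
      exact mono_of_mono u (kernel.ι (g ≫ g'))
    · let π₁ := pullback.fst g f'
      have hle : pullback.fst g f' ≫ g ≫ g' = 0 := by
        rw [pullback.condition_assoc, w', comp_zero]
      let t : pullback g f' ⟶ F' := kernel.lift _ (pullback.fst g f') hle
      have ht : t ≫ v = pullback.snd g f' := by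
        rw [← cancel_mono f', Category.assoc, hv, ← Category.assoc, kernel.lift_ι, pullback.condition]
      haveI : Epi (t ≫ v) := ht.symm ▸ inferInstance
      exact epi_of_epi t v

end ChernOpLib

end
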