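import Mathlib
import Groth.Agent.ChernOpLib.Roots
import Groth.Agent.ProjBunLib.Split
import Groth.Agent.CycPBLib.Func
import Groth.Agent.CycPBLib.FiltMain
import Groth.Agent.CycPBLib.Chern

/-!
# Chern classes are elementary symmetric in the roots
-/

set_option autoImplicit false
set_option linter.style.haveILetI false
set_option linter.unusedSectionVars false

universe u

open AlgebraicGeometry CategoryTheory CategoryTheory.Limits
open KFlatLib (pb)

noncomputable section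

namespace ChernOpLib

variable {X : Scheme.{u}} {δ : X → ℤ} (hX : Cyc.IsSetup X δ) {r : ℕ} {L : Fin r → X.Modules}
  (hL : ∀ i, PicF.IsInvertible (L i))

/-- Iterated caps along a set of indices. -/
def capsList (α : AlgebraicCycle X ℤ) : List (Fin r) → AlgebraicCycle X ℤ
  | [] => α
  | i :: l => CycC1Lib.capCyc hX (hL i) (capsList α l) (secs_ne_zero (hL i))

/-- Iterated caps along a finite set, largest index last. -/
def kap (α : AlgebraicCycle X ℤ) (I : Finset (Fin r)) : AlgebraicCycle X ℤ :=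
  capsList hX hL α (I.sort (· ≥ ·))

theorem kap_insert (α : AlgebraicCycle X ℤ) (I : Finset (Fin r)) (i : Fin r) (h : ∀ i' ∈ I, i' < i) :
    ⇑(kap hX hL α (insert i I)) = Cyc.c1CapFun δ (L i) ⇑(kap hX hL α I) (secs (hL i)) := by
  have hn : i ∉ I := fun hi => lt_irrefl i (h i hi)
  rw [kap, Finset.sort_insert (r := (· ≥ ·)) (fun b hb => (h b hb).le) hn]
  rfl

theorem kap_empty (α : AlgebraicCycle X ℤ) : kap hX hL α ∅ = α := by
  rw [kap, Finset.sort_empty]
  rfl

theorem exists_tcl_kap {k : ℤ} {α : AlgebraicCycle X ℤ} (hα : α ∈ Cyc.Zk X δ k) (I : Finset (Fin r)) :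
    ∃ h : kap hX hL α I ∈ Cyc.Zk X δ (k - (I.card : ℤ)),
      tcl (kap hX hL α I) h = (∏ i ∈ I, op hX (hL i) : OpRing hX).1 (tcl α hα) := by
  classical
  induction I using Finset.induction_on_max with
  | empty =>
    have h : ∀ (β : AlgebraicCycle X ℤ) (k' : ℤ), β = α → k' = k → ∃ h : β ∈ Cyc.Zk X δ k',
        tcl β h = tcl α hα := by
      rintro _ _ rfl rfl
      exact ⟨hα, rfl⟩
    obtain ⟨h', e⟩ := h _ (k - ((∅ : Finset (Fin r)).card : ℤ)) (kap_empty hX hL α) (by simp)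
    refine ⟨h', e.trans ?_⟩
    rw [Finset.prod_empty]
    rfl
  | insert a s ha IH =>
    obtain ⟨h, e⟩ := IH
    have hn : a ∉ s := fun hi => lt_irrefl a (ha a hi)
    have hc : ⇑(kap hX hL α (insert a s)) = Cyc.c1CapFun δ (L a) ⇑(kap hX hL α s) (secs (hL a)) :=
      kap_insert hX hL α s a ha
    have hm : kap hX hL α (insert a s) ∈ Cyc.Zk X δ (k - (s.card : ℤ) - 1) := by
      have h1 : CycC1Lib.capCyc hX (hL a) (kap hX hL α s) (secs_ne_zero (hL a)) ∈ Cyc.Zk X δ (k - (s.card : ℤ) - 1) :=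
        CycCommLib.capCyc_mem_Zk hX (hL a) (by rw [sub_add_cancel]; exact h) (secs_ne_zero (hL a))
      rwa [show CycC1Lib.capCyc hX (hL a) (kap hX hL α s) (secs_ne_zero (hL a)) = kap hX hL α (insert a s) from
        DFunLike.coe_injective hc.symm] at h1
    have hk : k - (s.card : ℤ) - 1 = k - ((insert a s).card : ℤ) := by
      rw [Finset.card_insert_of_notMem hn]; push_cast; ring
    refine ⟨hk ▸ hm, ?_⟩
    rw [← tcl_congr hk hm, ← c1T_tcl hX (hL a) h (secs_ne_zero (hL a)) hc hm, e, Finset.prod_insert hn]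
    rfl

/-- A sum of iterated caps over subsets of one size. -/
theorem exists_tcl_esymm {k : ℤ} {α : AlgebraicCycle X ℤ} (hα : α ∈ Cyc.Zk X δ k) (j : ℕ) :
    ∃ h : (∑ I ∈ Finset.powersetCard j Finset.univ, kap hX hL α I) ∈ Cyc.Zk X δ (k - (j : ℤ)),
      tcl _ h = (Multiset.esymm ((Finset.univ : Finset (Fin r)).val.map fun i => op hX (hL i)) j).1 (tcl α hα) := by
  classical
  have hmem : ∀ I ∈ Finset.powersetCard j (Finset.univ : Finset (Fin r)), kap hX hL α I ∈ Cyc.Zk X δ (k - (j : ℤ)) :=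
    fun I hI => by
      have := (exists_tcl_kap hX hL hα I).1
      rwa [(Finset.mem_powersetCard.1 hI).2] at this
  refine ⟨(ChowOps.zk X δ (k - (j : ℤ))).sum_mem hmem, ?_⟩
  let f : Finset (Fin r) → AlgebraicCycle X ℤ := fun I =>
    if I ∈ Finset.powersetCard j (Finset.univ : Finset (Fin r)) then kap hX hL α I else 0
  have hf : ∀ I, f I ∈ Cyc.Zk X δ (k - (j : ℤ)) := fun I => by
    by_cases h : I ∈ Finset.powersetCard j (Finset.univ : Finset (Fin r))
    · rw [show f I = kap hX hL α I from if_pos h]; exact hmem I h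
    · rw [show f I = 0 from if_neg h]; exact fun _ _ => rfl
  have hs : (∑ I ∈ Finset.powersetCard j Finset.univ, kap hX hL α I) =
      ∑ I ∈ Finset.powersetCard j Finset.univ, f I :=
    Finset.sum_congr rfl fun I hI => (if_pos hI).symm
  have hcongr : ∀ (β β' : AlgebraicCycle X ℤ) (h : β ∈ Cyc.Zk X δ (k - (j : ℤ))) (h' : β' ∈ Cyc.Zk X δ (k - (j : ℤ))),
      β = β' → tcl β h = tcl β' h' := by rintro _ _ h h' rfl; rfl
  rw [hcongr _ _ _ ((ChowOps.zk X δ (k - (j : ℤ))).sum_mem fun I _ => hf I) hs, tcl_sum _ f hf, Finset.esymm_map_val]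
  show _ = ((Subring.closure (c1Set hX)).subtype (∑ t ∈ Finset.powersetCard j Finset.univ, ∏ i ∈ t, op hX (hL i))) _
  rw [map_sum]
  refine (Finset.sum_congr rfl fun I hI => ?_).trans (AddMonoidHom.finsetSum_apply _ _ _).symm
  obtain ⟨h, e⟩ := exists_tcl_kap hX hL hα I
  refine Eq.trans ?_ e
  have hI' := (Finset.mem_powersetCard.1 hI).2
  rw [tcl_congr (show k - (I.card : ℤ) = k - (j : ℤ) by rw [hI']) h]
  congr 1
  exact if_pos hI

variable {P : Scheme.{u}} {δP : P → ℤ} {π : P ⟶ X} {d : ℕ} (hP : Cyc.IsSetup P δP) [Flat π] [LocallyOfFiniteType π]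
  (hr : Cyc.HasRelDim π d) (hδ : Cyc.DeltaCompat π δP δ)

include hδ in
/-- On a splitting scheme the Chern classes are the elementary symmetric functions of the roots. -/
theorem chern_esymm {E : X.Modules} {r : ℕ} (hE : FlatMod.IsFinLocFreeOfRank r E) {PE : Scheme.{u}} {p : PE ⟶ X}
    {O1 : PE.Modules} {q : pb p E ⟶ O1} (hPE : KRR.IsProjBundle p E O1 q) {δE : PE → ℤ} (hEs : Cyc.IsSetup PE δE)
    (hδE : Cyc.DeltaCompat p δE δ) {S : Multiset (OpRing hP)} (hcard : Multiset.card S = r)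
    (hS : Roots hP (pb π E) S) {k : ℤ} {α : AlgebraicCycle X ℤ} (hα : α ∈ Cyc.Zk X δ k)
    {γ : Fin (r + 1) → AlgebraicCycle X ℤ} (hγ : Cyc.IsChernCap p δ δE O1 r k α γ) (j : Fin (r + 1))
    (hγj : γ j ∈ Cyc.Zk X δ (k - ((j : ℕ) : ℤ))) :
    pullT hX hP hr hδ (tcl (γ j) hγj) = (S.esymm (j : ℕ)).1 (pullT hX hP hr hδ (tcl α hα)) := by
  classical
  have hgen := gen_of (π := π) hr hδ
  cases r with
  | zero =>
    obtain rfl : S = 0 := Multiset.card_eq_zero.1 hcard
    obtain rfl : j = 0 := Fin.ext (by omega)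
    have h0 : γ 0 = α := hγ.1
    have he : ((0 : Multiset (OpRing hP)).esymm ((0 : Fin 1) : ℕ)) = 1 := by simp [Multiset.esymm]
    rw [he]
    show _ = pullT hX hP hr hδ (tcl α hα)
    congr 1
    subst h0
    exact tcl_congr (by simp) hγj
  | succ n =>
    obtain ⟨r', M, L', a, b, h0, e, hL', hex, hSL⟩ := hS.exists_filt
    obtain rfl : r' = n + 1 := by
      rw [hSL, Multiset.card_map] at hcard
      simpa using hcard
    choose hab hse using hex
    haveI : IsProper p := ProjBunLib.isProper hPE hE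
    obtain ⟨B, hBX, hBP⟩ := CycPBLib.exists_bun' hE hPE hX hEs hδE
    let PY := pullback p π
    let f' : PY ⟶ PE := pullback.fst p π
    let p' : PY ⟶ P := pullback.snd p π
    have hsq : IsPullback f' p' p π := IsPullback.of_hasPullback p π
    have hE' : FlatMod.IsFinLocFreeOfRank (n + 1) (pb π E) := SeesawLib.isFinLocFreeOfRank_pullback π hE
    have hB' := CycPBLib.isProjBundle_bc q hPE hsq
    haveI : IsProper p' := ProjBunLib.isProper hB' hE'
    obtain ⟨δY, hδY⟩ := CycAffLib.exists_deltaCompat p' δP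
    have hYs : Cyc.IsSetup PY δY := CycBivLib.isSetup_of_lft p' hP hδY
    obtain ⟨B', hB'X, hB'P⟩ := CycPBLib.exists_bun' hE' hB' hP hYs hδY
    subst hBX hBP hB'X hB'P
    have hβm : ∀ i : Fin (n + 1 + 1), CycC1Lib.pullCyc π hP hgen (γ i) ∈ Cyc.Zk P B'.δX (k - ((i : ℕ) : ℤ) + d) := fun i =>
      CycC1Lib.pullCyc_mem_Zk π hP hgen (hγ.2.1 i)
    have hαP : CycC1Lib.pullCyc π hP hgen α ∈ Cyc.Zk P B'.δX (k + d) := CycC1Lib.pullCyc_mem_Zk π hP hgen hα
    have h1 := CycPBLib.isChernCap_pull B B' hsq hδ d hr hγ (αX := CycC1Lib.pullCyc π hP hgen α) rfl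
      (β := fun i => CycC1Lib.pullCyc π hP hgen (γ i)) fun _ => rfl
    have h2 := CycPBLib.isChernCap_filtered B' hE' hB' M h0 e L' hL' a b hab hse hαP
      (t := fun i => secs (hL' i)) (fun i ξ => secs_ne_zero (hL' i) ξ) (κ := kap hP hL' (CycC1Lib.pullCyc π hP hgen α)) (kap_empty _ _ _)
      (fun I i h => kap_insert hP hL' _ I i h)
    have huniq := B'.chern_unique (CycCommLib.ratEquiv_refl _) h1 h2 j
    obtain ⟨hm, hesymm⟩ := exists_tcl_esymm hP hL' hαP (j : ℕ)
    rw [pullT_tcl hX hP hr hδ hγj rfl (hβm j), pullT_tcl hX hP hr hδ hα rfl hαP, hSL, ← hesymm,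
      tcl_congr (show k - ((j : ℕ) : ℤ) + d = k + d - ((j : ℕ) : ℤ) by ring) (hβm j), tcl_eq_iff hP]
    exact huniq

end ChernOpLib

end
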