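import Mathlib
import Groth.Agent.ChernOpLib.Roots
import Groth.Agent.ProjFormLib.Proj
import Groth.Agent.HilbPolyLib.Twist
import Groth.Agent.AmpleDevLib.Devissage
import Groth.Agent.KFlatLib.PullTensor

/-!
# Chern roots of tensor products
-/

set_option autoImplicit false
set_option linter.style.haveILetI false
set_option linter.unusedSectionVars false

universe u

open AlgebraicGeometry CategoryTheory CategoryTheory.Limits
open KFlatLib (pb)

noncomputable section

namespace ChernOpLib

variable {X : Scheme.{u}} {δ : X → ℤ} {hX : Cyc.IsSetup X δ}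

theorem Roots.map_exact {G : X.Modules ⥤ X.Modules} [G.PreservesZeroMorphisms]
    (hG : ∀ {S : ShortComplex X.Modules}, S.ShortExact → (S.map G).ShortExact) {φ : OpRing hX → OpRing hX}
    (hQ : ∀ (Q : X.Modules) (hQ : PicF.IsInvertible Q), ∃ hQ' : PicF.IsInvertible (G.obj Q), op hX hQ' = φ (op hX hQ))
    {F : X.Modules} {S : Multiset (OpRing hX)} (h : Roots hX F S) : Roots hX (G.obj F) (S.map φ) := by
  induction h with
  | @zero F h => exact .zero (Functor.map_isZero G h)
  | @cons K F Q S f g w hse hQi hK IH =>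
    obtain ⟨h', e⟩ := hQ Q hQi
    rw [Multiset.map_cons, ← e]
    exact .cons (G.map f) (G.map g) _ (hG hse) h' IH

theorem tensorMod_eq (A B : X.Modules) : (ProjFormLib.tF A).obj B = CohB1.tensorMod A B := rfl

theorem Roots.tens_line {F : X.Modules} {S : Multiset (OpRing hX)} (h : Roots hX F S) {L : X.Modules}
    (hL : PicF.IsInvertible L) : Roots hX (CohB1.tensorMod L F) (S.map fun a => op hX hL + a) := by
  have hfree : FlatMod.IsFinLocFree L :=
    CurveVBLib.isFinLocFree_of_rank ((CohCmpLib.invertible_iff_rank_one L).1 hL)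
  haveI := ProjFormLib.preservesHomology_tens hfree
  rw [← tensorMod_eq L F]
  refine h.map_exact (fun hS => ProjFormLib.shortExact_tens hfree hS) fun Q hQ => ?_
  have hT := HilbPolyLib.isInvertible_tensor hL hQ
  rw [tensorMod_eq L Q]
  exact ⟨hT, op_tensor hX hL hQ hT⟩

theorem Roots.tensor {E F : X.Modules} {S T : Multiset (OpRing hX)} (hE : Roots hX E S)
    (hfree : FlatMod.IsFinLocFree E) (hF : Roots hX F T) :
    Roots hX (CohB1.tensorMod E F) ((S ×ˢ T).map fun p => p.1 + p.2) := by
  haveI := ProjFormLib.preservesHomology_tens hfree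
  rw [← tensorMod_eq E F]
  induction hF with
  | @zero F h =>
    rw [Multiset.product_zero, Multiset.map_zero]
    exact .zero (Functor.map_isZero (ProjFormLib.tF E) h)
  | @cons K F Q T f g w hse hQ hK IH =>
    rw [Multiset.product_cons, Multiset.map_add, Multiset.map_map,
      add_comm (Multiset.map _ S) _]
    have hl : Roots hX ((ProjFormLib.tF E).obj Q) (S.map fun a => op hX hQ + a) := by
      rw [tensorMod_eq E Q]
      exact (hE.tens_line hQ).of_iso (AmpleDevLib.tensComm Q E)
    have he : Multiset.map ((fun p : OpRing hX × OpRing hX => p.1 + p.2) ∘ fun a => (a, op hX hQ)) S =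
        Multiset.map (fun a => op hX hQ + a) S := Multiset.map_congr rfl fun a _ => add_comm _ _
    rw [he]
    have hs := ProjFormLib.shortExact_tens hfree hse
    exact Roots.add (K := (ProjFormLib.tF E).obj K) (F := (ProjFormLib.tF E).obj F)
      (Q := (ProjFormLib.tF E).obj Q) IH hl ((ShortComplex.mk f g w).map (ProjFormLib.tF E)).f
      ((ShortComplex.mk f g w).map (ProjFormLib.tF E)).g ((ShortComplex.mk f g w).map (ProjFormLib.tF E)).zero hs

/-- Pullback of a tensor product. -/
theorem nonempty_pb_tensor {Y : Scheme.{u}} (g : Y ⟶ X) (A B : X.Modules) :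
    Nonempty (CohB1.tensorMod (pb g A) (pb g B) ≅ pb g (CohB1.tensorMod A B)) := by
  haveI := KFlatLib.isIso_pullθ g A B
  exact ⟨(@asIso _ _ _ _ (KFlatLib.pullθ g A B) this).symm⟩

end ChernOpLib

end
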