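import Mathlib
import Groth.Agent.ChernOpLib.Esymm
import Groth.Agent.ChernOpLib.Tensor
import Groth.Agent.ChernOpLib.Algebra

/-!
# The splitting principle on total Chow groups
-/

set_option autoImplicit false
set_option linter.style.haveILetI false
set_option linter.unusedSectionVars false

universe u

open AlgebraicGeometry CategoryTheory CategoryTheory.Limits
open KFlatLib (pb)

noncomputable section

namespace ChernOpLib

variable {X : Scheme.{u}} {δ : X → ℤ} (hX : Cyc.IsSetup X δ)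

theorem tcl_ext {k : ℤ} {β β' : AlgebraicCycle X ℤ} (e : β = β') (h : β ∈ Cyc.Zk X δ k) :
    tcl β h = tcl β' (e ▸ h : β' ∈ Cyc.Zk X δ k) := by subst e; rfl

/-- The splitting principle. -/
theorem exists_splitting (m : ℕ) (E : Fin m → X.Modules) (rk : Fin m → ℕ)
    (hE : ∀ i, FlatMod.IsFinLocFreeOfRank (rk i) (E i)) :
    ∃ (P : Scheme.{u}) (π : P ⟶ X) (δP : P → ℤ) (d : ℕ) (hP : Cyc.IsSetup P δP) (_ : Flat π)
      (_ : LocallyOfFiniteType π) (hr : Cyc.HasRelDim π d) (hδ : Cyc.DeltaCompat π δP δ),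
      Function.Injective (pullT hX hP hr hδ) ∧
      ∀ i, ∃ S : Multiset (OpRing hP), Multiset.card S = rk i ∧ Roots hP (pb π (E i)) S := by
  obtain ⟨P, π, d, hg, hf⟩ := ProjBunLib.exists_split m X δ hX E rk hE
  haveI := hg.proper
  haveI := hg.flat
  obtain ⟨δP, hδ⟩ := CycAffLib.exists_deltaCompat π δ
  have hP := CycBivLib.isSetup_of_lft π hX hδ
  exact ⟨P, π, δP, d, hP, inferInstance, inferInstance, hg.relDim, hδ,
    pullT_injective hX hP hg.relDim hδ hg, fun i => exists_roots (hf i)⟩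

/-- Iterated caps are powers of the operator. -/
theorem exists_tcl_pow {L : X.Modules} (hL : PicF.IsInvertible L) {t : ℕ → (ξ : X) → Cyc.secFibre L ξ}
    (ht : ∀ m ξ, t m ξ ≠ 0) {k : ℤ} {D : AlgebraicCycle X ℤ} (hD : D ∈ Cyc.Zk X δ k) :
    ∀ j : ℕ, ∃ (β : AlgebraicCycle X ℤ) (h : β ∈ Cyc.Zk X δ (k - (j : ℤ))),
      ⇑β = Cyc.c1PowFun δ L t j ⇑D ∧ tcl β h = ((c1T hX hL) ^ j) (tcl D hD) := by
  intro j
  induction j with
  | zero => exact ⟨D, by simpa using hD, rfl, (tcl_congr (by simp) hD).symm⟩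
  | succ j ih =>
    obtain ⟨β, h, hβ, e⟩ := ih
    have hm : CycC1Lib.capCyc hX hL β (ht j) ∈ Cyc.Zk X δ (k - (j : ℤ) - 1) :=
      CycCommLib.capCyc_mem_Zk hX hL (by rw [sub_add_cancel]; exact h) (ht j)
    refine ⟨CycC1Lib.capCyc hX hL β (ht j), ?_, ?_, ?_⟩
    · rwa [show k - ((j + 1 : ℕ) : ℤ) = k - (j : ℤ) - 1 by push_cast; ring]
    · show Cyc.c1CapFun δ L ⇑β (t j) = Cyc.c1CapFun δ L (Cyc.c1PowFun δ L t j ⇑D) (t j)
      rw [hβ]
    · rw [← tcl_congr (show k - (j : ℤ) - 1 = k - ((j + 1 : ℕ) : ℤ) by push_cast; ring) hm,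
        ← c1T_tcl hX hL h (ht j) (γ := CycC1Lib.capCyc hX hL β (ht j)) rfl hm, e, pow_succ']
      rfl

variable {P : Scheme.{u}} {δP : P → ℤ} {π : P ⟶ X} {d : ℕ} (hP : Cyc.IsSetup P δP) [Flat π] [LocallyOfFiniteType π]
  (hr : Cyc.HasRelDim π d) (hδ : Cyc.DeltaCompat π δP δ)

/-- Pullback commutes with powers. -/
theorem pullT_pow {L : X.Modules} (hL : PicF.IsInvertible L) (x : Tot X δ) : ∀ j : ℕ,
    pullT hX hP hr hδ (((c1T hX hL) ^ j) x) =
      ((op hP (AmpleDevLib.isInvertible_pb π hL)) ^ j).1 (pullT hX hP hr hδ x)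
  | 0 => rfl
  | j + 1 => by
    rw [pow_succ', pow_succ']
    show pullT hX hP hr hδ (c1T hX hL (((c1T hX hL) ^ j) x)) =
      c1T hP (AmpleDevLib.isInvertible_pb π hL) (((op hP (AmpleDevLib.isInvertible_pb π hL)) ^ j).1 _)
    rw [pullT_c1T_apply, pullT_pow hL x j]

end ChernOpLib

end
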