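import Mathlib
import Groth.Agent.ChernOpLib.Roots
import Groth.Agent.ChernOpLib.Tensor
import Groth.Agent.CohCmpLib.HomFrame
import Groth.Agent.CohCmpLib.HomLift
import Groth.Agent.DetRootLib.Filt
import Groth.Agent.KFlatLib.PerfectPull

/-!
# Chern roots of the dual
-/

set_option autoImplicit false
set_option linter.style.haveILetI false
set_option linter.unusedSectionVars false
set_option maxRecDepth 8000

universe u

open AlgebraicGeometry CategoryTheory CategoryTheory.Limits
open ProjFormLib (ger res ger_res ger_map exists_ger section_ext exists_frame)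
open CohCmpLib (stk homMod evMod curryMod evS hVal HomEv)
open KFlatLib (pb tens shTm)
open scoped ZeroObject

noncomputable section

namespace ChernOpLib

variable {X : Scheme.{u}}

/-- The dual module. -/
abbrev du (M : X.Modules) : X.Modules := homMod M (Coh.structureModule X)

/-- Contravariant functoriality of the dual. -/
def duMap {M M' : X.Modules} (f : M ⟶ M') : du M' ⟶ du M :=
  curryMod (((DCoh.tensorBi (X := X)).map f).app (du M') ≫ evMod M' (Coh.structureModule X))

theorem evS_duMap {M M' : X.Modules} (f : M ⟶ M') (y : X) (n : stk (du M') y) :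
    evS (evMod M (Coh.structureModule X)) y (((DerSch.stalkFunctor X y).map (duMap f)).hom n) =
      (evS (evMod M' (Coh.structureModule X)) y n).comp ((DerSch.stalkFunctor X y).map f).hom := by
  rw [duMap, CohCmpLib.evS_evMod_curry]
  obtain ⟨V, hy, n, rfl⟩ := exists_ger (du M') y n
  refine LinearMap.ext fun m => ?_
  obtain ⟨V', hy', m, rfl⟩ := exists_ger M y m
  rw [← ger_res (du M') (inf_le_left : V ⊓ V' ≤ V) y ⟨hy, hy'⟩ n,
    ← ger_res M (inf_le_right : V ⊓ V' ≤ V') y ⟨hy, hy'⟩ m, LinearMap.comp_apply, ger_map, CohCmpLib.evS_ger,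
    CohCmpLib.evS_ger]
  exact congrArg (fun s => ger (Coh.structureModule X) y _ ((evMod M' (Coh.structureModule X)).app _ s))
    (KFlatLib.tensorBi_map₁_shTm f (du M') _ _)

theorem duMap_zero_stalk {M : X.Modules} (hM : FlatMod.IsFinLocFree M) (h : IsZero M) : IsZero (du M) := by
  refine (KFlatLib.isZero_iff_forall_stalk _).mpr fun y => (ModuleCat.isZero_iff_subsingleton).mpr ⟨fun a b => ?_⟩
  refine (CohCmpLib.homEv_evMod hM y).1 (LinearMap.ext fun m => ?_)
  haveI : Subsingleton ((DerSch.stalkFunctor X y).obj M) :=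
    (ModuleCat.isZero_iff_subsingleton).1 ((KFlatLib.isZero_iff_forall_stalk _).1 h y)
  rw [Subsingleton.elim m 0, map_zero, map_zero]

/-- The dual of a short exact sequence with locally free quotient is short exact. -/
theorem shortExact_du {S : ShortComplex X.Modules} (hS : S.ShortExact) {r : ℕ}
    (h₃ : FlatMod.IsFinLocFreeOfRank r S.X₃) (hK : FlatMod.IsFinLocFree S.X₁) (hF : FlatMod.IsFinLocFree S.X₂)
    (hQ : FlatMod.IsFinLocFree S.X₃) :
    ∃ w : duMap S.g ≫ duMap S.f = 0, (ShortComplex.mk (duMap S.g) (duMap S.f) w).ShortExact := by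
  have hsur : ∀ (y : X) (a : stk S.X₃ y), ∃ b : stk S.X₂ y, ((DerSch.stalkFunctor X y).map S.g).hom b = a :=
    fun y => DetRootLib.stalk_surjective hS y
  have hfg : ∀ (y : X) (a : stk S.X₁ y),
      ((DerSch.stalkFunctor X y).map S.g).hom (((DerSch.stalkFunctor X y).map S.f).hom a) = 0 := fun y a =>
    congr($((S.map (DerSch.stalkFunctor X y)).zero) a)
  have key : ∀ (y : X) (n : stk (du S.X₃) y),
      ((DerSch.stalkFunctor X y).map (duMap S.f)).hom (((DerSch.stalkFunctor X y).map (duMap S.g)).hom n) = 0 := by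
    intro y n
    refine (CohCmpLib.homEv_evMod hK y).1 ?_
    rw [evS_duMap, evS_duMap, map_zero]
    refine LinearMap.ext fun a => ?_
    rw [LinearMap.comp_apply, LinearMap.comp_apply, hfg, map_zero]
    rfl
  have w : duMap S.g ≫ duMap S.f = 0 := by
    refine Scheme.Modules.hom_ext _ _ fun V => ?_
    ext n
    refine section_ext _ _ fun y hy => ?_
    show ger (du S.X₁) y hy ((duMap S.f).app V ((duMap S.g).app V n)) = ger (du S.X₁) y hy 0
    rw [CohCmpLib.ger_zero, ← ger_map, ← ger_map]
    exact key y _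
  refine ⟨w, CurvLib.shortExact_of_stalks _ fun y => ?_⟩
  obtain ⟨σ⟩ := ProjBunLib.nonempty_splitting hS h₃ y
  let ρ : stk S.X₂ y →ₗ[X.presheaf.stalk y] stk S.X₁ y := σ.r.hom
  have hr : ∀ a, ρ (((DerSch.stalkFunctor X y).map S.f).hom a) = a := fun a => congr($(σ.f_r) a)
  refine { exact := ?_, mono_f := ?_, epi_g := ?_ }
  · rw [ShortComplex.moduleCat_exact_iff]
    intro n hn
    let L := evS (evMod S.X₂ (Coh.structureModule X)) y n
    have hL : ∀ a, L (((DerSch.stalkFunctor X y).map S.f).hom a) = 0 := fun a => by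
      have h1 := evS_duMap S.f y n
      rw [show ((DerSch.stalkFunctor X y).map (duMap S.f)).hom n = 0 from hn, map_zero] at h1
      exact (congr($h1 a)).symm
    choose sec hsec using hsur y
    have hwd : ∀ b, L b = L (sec (((DerSch.stalkFunctor X y).map S.g).hom b)) := fun b => by
      obtain ⟨d, hd⟩ := DetRootLib.stalk_exact hS y (b - sec (((DerSch.stalkFunctor X y).map S.g).hom b))
        (by
          show ((DerSch.stalkFunctor X y).map S.g).hom (b - _) = 0
          rw [map_sub, hsec, sub_self])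
      rw [← sub_eq_zero, ← map_sub]
      exact (congrArg L hd).symm.trans (hL d)
    let L' : stk S.X₃ y →ₗ[X.presheaf.stalk y] stk (Coh.structureModule X) y :=
      { toFun := fun q => L (sec q)
        map_add' := fun q q' => by
          rw [← map_add, hwd (sec q + sec q'), map_add, hsec, hsec]
        map_smul' := fun c q => by
          rw [RingHom.id_apply, ← map_smul, hwd (c • sec q), map_smul, hsec] }
    obtain ⟨n', hn'⟩ := (CohCmpLib.homEv_evMod hQ y).2 L'
    refine ⟨n', (CohCmpLib.homEv_evMod hF y).1 ?_⟩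
    refine (evS_duMap S.g y n').trans (LinearMap.ext fun b => ?_)
    rw [LinearMap.comp_apply, hn']
    exact (hwd b).symm
  · refine (ModuleCat.mono_iff_injective _).2 fun a b hab => ?_
    refine (CohCmpLib.homEv_evMod hQ y).1 (LinearMap.ext fun q => ?_)
    obtain ⟨c, rfl⟩ := hsur y q
    have h1 := congrArg (fun z => evS (evMod S.X₂ (Coh.structureModule X)) y z c) hab
    have e1 := congr($(evS_duMap S.g y a) c)
    have e2 := congr($(evS_duMap S.g y b) c)
    exact e1.symm.trans (h1.trans e2)
  · refine (ModuleCat.epi_iff_surjective _).2 fun m => ?_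
    obtain ⟨n, hn⟩ := (CohCmpLib.homEv_evMod hF y).2 ((evS (evMod S.X₁ (Coh.structureModule X)) y m).comp ρ)
    refine ⟨n, (CohCmpLib.homEv_evMod hK y).1 ((evS_duMap S.f y n).trans (LinearMap.ext fun a => ?_))⟩
    rw [LinearMap.comp_apply, hn, LinearMap.comp_apply, hr]

/-- Evaluation on an invertible module trivialises. -/
theorem exists_du_inv {Q : X.Modules} (hQ : PicF.IsInvertible Q) :
    PicF.IsInvertible (du Q) ∧ IsIso (evMod Q (Coh.structureModule X)) := by
  have hfree : FlatMod.IsFinLocFree Q :=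
    CurveVBLib.isFinLocFree_of_rank ((CohCmpLib.invertible_iff_rank_one Q).1 hQ)
  have : ∀ x : X, ∃ (U : X.Opens) (_ : x ∈ U) (e : Γ(Q, U)) (h : Γ(du Q, U)), AmpleLib.GenOn Q e ∧
      ∀ (y : X) (hy : y ∈ U), AmpleLib.GenAt (du Q) h hy ∧
        AmpleLib.GenAt (Coh.structureModule X) ((evMod Q (Coh.structureModule X)).app U (shTm e h)) hy := by
    intro x
    obtain ⟨U, e, hxU, he⟩ := TwistLib.exists_genOn hQ x
    have hfr : ProjFormLib.IsFrame Q (fun _ : Fin 1 => e) := fun y hy => by
      have h1 := he.genAt hy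
      refine (congrArg Function.Bijective (funext fun c => ?_)).mpr
        (h1.comp (Equiv.funUnique (Fin 1) (X.presheaf.stalk y)).bijective)
      rw [Fintype.linearCombination_apply, Fin.sum_univ_one]
      rfl
    obtain ⟨h, hh⟩ := CohCmpLib.exists_hom_of_frame (P := Coh.structureModule X) hfr le_rfl
      fun _ => (1 : Γ(X, U))
    have hone : ∀ (y : X) (hy : y ∈ U), AmpleLib.GenAt (Coh.structureModule X) (1 : Γ(X, U)) hy := fun y hy =>
      (AmpleLib.one_genOn (X := X) U).genAt hy
    refine ⟨U, hxU, e, h, he, fun y hy => ⟨?_, ?_⟩⟩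
    · have hev : Function.Bijective
          (fun φ : stk Q y →ₗ[X.presheaf.stalk y] stk (Coh.structureModule X) y => φ (ger Q y hy e)) := by
        refine ⟨fun φ ψ hφ => LinearMap.ext fun m => ?_, fun t => ?_⟩
        · obtain ⟨c, rfl⟩ := (he.genAt hy).2 m
          show φ (c • ger Q y hy e) = ψ (c • ger Q y hy e)
          rw [map_smul, map_smul]
          exact congrArg (c • ·) hφ
        · refine ⟨(hfr.basis y hy).constr (X.presheaf.stalk y) fun _ => t, ?_⟩
          show (hfr.basis y hy).constr (X.presheaf.stalk y) (fun _ => t) (ger Q y hy e) = t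
          have hb : (hfr.basis y hy) 0 = ger Q y hy e := hfr.basis_apply y hy 0
          rw [← hb, Module.Basis.constr_basis]
      have e1 : ((fun φ : stk Q y →ₗ[X.presheaf.stalk y] stk (Coh.structureModule X) y => φ (ger Q y hy e)) ∘
          ⇑(evS (evMod Q (Coh.structureModule X)) y)) ∘ (fun c => c • ger (du Q) y hy h) =
          fun c : X.presheaf.stalk y => c • ger (Coh.structureModule X) y hy (1 : Γ(X, U)) := funext fun c => by
        show evS (evMod Q (Coh.structureModule X)) y (c • ger (du Q) y hy h) (ger Q y hy e) = _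
        rw [map_smul, LinearMap.smul_apply, CohCmpLib.evS_evMod, hh y hy 0]
      exact (Function.Bijective.of_comp_iff' (hev.comp (CohCmpLib.homEv_evMod hfree y)) _).1 (e1 ▸ hone y hy)
    · have e2 : (evMod Q (Coh.structureModule X)).app U (shTm e h) = (1 : Γ(X, U)) :=
        section_ext _ _ fun z hz => by rw [CohCmpLib.evMod_app, CohCmpLib.ger_happ, hh z hz 0]
      rw [e2]
      exact hone y hy
  choose U hxU e h he hg using this
  refine ⟨TwistLib.isInvertible_of_genOn U (fun x => ⟨x, hxU x⟩) h fun x =>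
    TwistLib.genOn_of_genAt fun y hy => (hg x y hy).1, TwistLib.isIso_of_gen _ fun x => ?_⟩
  exact ⟨U x, hxU x, shTm (e x) (h x), AmpleLib.GenAt.tensor ((he x).genAt (hxU x)) (hg x x (hxU x)).1,
    (hg x x (hxU x)).2⟩

variable {δ : X → ℤ} {hX : Cyc.IsSetup X δ}

theorem op_structureModule (h : PicF.IsInvertible (Coh.structureModule X)) : op hX h = 0 := by
  refine Subtype.ext ?_
  show c1T hX h = 0
  refine (hom_ext_tcl 1 _ (fun _ => 0) fun k α hα => ?_).trans (AddMonoidHom.ext fun x => funext fun j => by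
    show Bivar.chCast X δ _ 0 = 0
    exact map_zero _)
  have hm : CycC1Lib.capCyc hX h α (secs_ne_zero h) ∈ Cyc.Zk X δ (k - 1) :=
    CycCommLib.capCyc_mem_Zk hX h (by rw [sub_add_cancel]; exact hα) (secs_ne_zero h)
  rw [CycBivLib.capCH_cl hX h _ k α hα (secs_ne_zero h) _ rfl hm, AddMonoidHom.zero_apply]
  refine (CycBivLib.cl_eq_cl hm (ChowOps.zk X δ (k - 1)).zero_mem ?_).trans Bivar.cl_zero
  show Cyc.RatEquivZero δ (k - 1) (_ - 0)
  rw [sub_zero]
  exact CycC1Lib.c1Cap_structureModule hX α (by rw [sub_add_cancel]; exact hα) _ (secs_ne_zero h) _ rfl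

theorem op_du {Q : X.Modules} (hQ : PicF.IsInvertible Q) :
    op hX (exists_du_inv hQ).1 = -op hX hQ := by
  obtain ⟨hd, hiso⟩ := exists_du_inv hQ
  have hT := HilbPolyLib.isInvertible_tensor hQ hd
  have hO : PicF.IsInvertible (Coh.structureModule X) := CurvLib.isInvertible_structureModule
  have h1 := op_iso hX hT hO (@asIso _ _ _ _ (evMod Q (Coh.structureModule X)) hiso)
  rw [op_tensor hX hQ hd hT, op_structureModule hO] at h1
  exact eq_neg_of_add_eq_zero_right h1

/-- Roots of the dual. -/
theorem Roots.dual [IsLocallyNoetherian X] {F : X.Modules} {S : Multiset (OpRing hX)} (h : Roots hX F S) :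
    ∀ {n : ℕ}, FlatMod.IsFinLocFreeOfRank n F → Multiset.card S = n →
      Roots hX (du F) (S.map fun a => -a) := by
  induction h with
  | @zero F h =>
    intro n hn _
    exact .zero (duMap_zero_stalk (CurveVBLib.isFinLocFree_of_rank hn) h)
  | @cons K F Q S f g w hse hQ hK IH =>
    intro n hn hc
    obtain ⟨m, rfl⟩ : ∃ m, n = m + 1 := ⟨Multiset.card S, by rw [← hc, Multiset.card_cons]⟩
    have hQ1 := (CohCmpLib.invertible_iff_rank_one Q).1 hQ
    have hKm : FlatMod.IsFinLocFreeOfRank m K := ProjBunLib.rank_of_shortExact hse hn hQ1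
    have hSm : Multiset.card S = m := by simpa using hc
    obtain ⟨w', hse'⟩ := shortExact_du hse hQ1 (CurveVBLib.isFinLocFree_of_rank hKm)
      (CurveVBLib.isFinLocFree_of_rank hn) (CurveVBLib.isFinLocFree_of_rank hQ1)
    have hQd : Roots hX (du Q) {op hX (exists_du_inv hQ).1} := by
      refine Roots.cons (S := 0) (0 : (0 : X.Modules) ⟶ du Q) (𝟙 (du Q)) (by simp) ?_ (exists_du_inv hQ).1 (.zero (isZero_zero _))
      exact ShortComplex.Splitting.shortExact
        { r := 0, s := 𝟙 _, f_r := (isZero_zero _).eq_of_src _ _, s_g := by simp, id := by simp }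
    have h1 := Roots.add hQd (IH hKm hSm) _ _ w' hse'
    rw [op_du hQ, Multiset.singleton_add] at h1
    rw [Multiset.map_cons]
    exact h1

/-- A pairing followed by an isomorphism is still perfect. -/
theorem homEv_comp_iso {M H P P' : X.Modules} {φ : tens M H ⟶ P} (hφ : HomEv φ) (i : P ≅ P') :
    HomEv (φ ≫ i.hom) := fun y => by
  let e : stk P y ≃ₗ[X.presheaf.stalk y] stk P' y := ((DerSch.stalkFunctor X y).mapIso i).toLinearEquiv
  have h1 : ∀ n, evS (φ ≫ i.hom) y n = e.toLinearMap.comp (evS φ y n) := fun n => by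
    obtain ⟨V, hy, n, rfl⟩ := exists_ger H y n
    refine LinearMap.ext fun m => ?_
    obtain ⟨V', hy', m, rfl⟩ := exists_ger M y m
    rw [← ger_res H (inf_le_left : V ⊓ V' ≤ V) y ⟨hy, hy'⟩ n,
      ← ger_res M (inf_le_right : V ⊓ V' ≤ V') y ⟨hy, hy'⟩ m, LinearMap.comp_apply, CohCmpLib.evS_ger,
      CohCmpLib.evS_ger]
    exact (ger_map i.hom y _ _).symm
  have hc : Function.Bijective fun L : stk M y →ₗ[X.presheaf.stalk y] stk P y => e.toLinearMap.comp L :=
    ⟨fun a b hab => LinearMap.ext fun m => e.injective congr($hab m),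
      fun L => ⟨e.symm.toLinearMap.comp L, LinearMap.ext fun m => e.apply_symm_apply _⟩⟩
  exact (congrArg Function.Bijective (funext h1)).mpr (hc.comp (hφ y))

/-- The pulled back sheaf Hom into the structure sheaf is the dual of the pullback. -/
theorem nonempty_pb_dual {Y : Scheme.{u}} (g : Y ⟶ X) {M : X.Modules} [DCoh.HasSheafHom M]
    (hM : FlatMod.IsFinLocFree M) (i : pb g (Coh.structureModule X) ≅ Coh.structureModule Y) :
    Nonempty (du (pb g M) ≅ pb g ((DCoh.sheafHom M).obj (Coh.structureModule X))) := by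
  have h1 := homEv_comp_iso (CohCmpLib.homEv_pullback g hM (CohCmpLib.homEv_counit (P := Coh.structureModule X) hM)) i
  have h2 : IsIso (curryMod (CohCmpLib.pullEv g ((DCoh.sheafHomAdj M).counit.app (Coh.structureModule X)) ≫ i.hom)) :=
    CohCmpLib.isIso_of_homEv _ (CohCmpLib.curryMod_comp _) h1
      (CohCmpLib.homEv_evMod (CohCmpLib.isFinLocFree_pb g hM))
  exact ⟨(@asIso _ _ _ _ _ h2).symm⟩

end ChernOpLib

end
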